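import Mathlib.GroupTheory.Sylow
import Mathlib.GroupTheory.Perm.Cycle.Type
import Mathlib.GroupTheory.Subgroup.Centralizer

/-!
A finite 2-group all of whose elements are fused into the centre is commutative: the part of the
proof that only sees the 2-group, a fusion relation and the automorphisms it induces.
-/

set_option autoImplicit false

namespace CfsgLib.CenterConj

/-- An involution of a set of odd size has a fixed point. -/
theorem exists_fixed {α : Type*} [Finite α] (h : Odd (Nat.card α)) (f : α → α)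
    (hf : Function.Involutive f) : ∃ a, f a = a := by
  have := Fintype.ofFinite α
  have : Fact (Nat.Prime 2) := ⟨Nat.prime_two⟩
  obtain ⟨a, ha⟩ := Equiv.Perm.exists_fixed_point_of_prime (p := 2) (n := 1)
    (σ := hf.toPerm f) (by
      rw [Fintype.card_eq_nat_card]
      exact h.not_two_dvd_nat) (by
      refine Equiv.ext fun x => ?_
      show f (f x) = x
      exact hf x)
  exact ⟨a, ha⟩

/-- If a subgroup whose index is odd fixes a point, the orbit is odd; for the image of an action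
by automorphisms. -/
theorem odd_orbit {H X : Type*} [Group H] [Finite H] [Group X] (f : H →* MulAut X) (a : X)
    (Q : Sylow 2 H) (hQ : ∀ q ∈ Q, f q a = a) : Odd (MulAction.orbit f.range a).ncard := by
  have : Fact (Nat.Prime 2) := ⟨Nat.prime_two⟩
  rw [← MulAction.index_stabilizer,
    ← Subgroup.index_comap_of_surjective _ f.rangeRestrict_surjective, ← Nat.not_even_iff_odd,
    even_iff_two_dvd]
  exact fun h2 => Q.not_dvd_index (h2.trans (Subgroup.index_dvd_of_le fun q hq => hQ q hq))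

/-- In a finite group with a normal subgroup, the orbit lengths of the subgroup divide those of
the group. -/
theorem ncard_orbit_dvd {A X : Type*} [Group A] [Finite A] [MulAction A X] (N : Subgroup A)
    [N.Normal] (a : X) : (MulAction.orbit N a).ncard ∣ (MulAction.orbit A a).ncard := by
  rw [← MulAction.index_stabilizer, ← MulAction.index_stabilizer]
  set T := MulAction.stabilizer A a
  have h : MulAction.stabilizer N a = T.subgroupOf N := rfl
  rw [h]
  show T.relIndex N ∣ T.index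
  have h1 := Subgroup.relIndex_mul_relIndex (T ⊓ N) N (N ⊔ T) inf_le_right le_sup_left
  have h2 := Subgroup.relIndex_mul_relIndex (T ⊓ N) T (N ⊔ T) inf_le_left le_sup_right
  rw [Subgroup.inf_relIndex_right, Subgroup.relIndex_sup_left] at h1
  rw [show (T ⊓ N).relIndex T = N.relIndex T by rw [inf_comm, Subgroup.inf_relIndex_right]] at h2
  have h3 : T.relIndex N = T.relIndex (N ⊔ T) :=
    mul_right_cancel₀ (Subgroup.index_ne_zero_of_finite (H := N.subgroupOf T))
      (h1.trans (h2.symm.trans (mul_comm _ _)))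
  rw [h3]
  exact Subgroup.relIndex_dvd_index_of_le le_sup_right

variable (S : Type*) [Group S]

/-- The centralizer of the set of elements of order at most two. -/
def invCent : Subgroup S := Subgroup.centralizer {x : S | x * x = 1}

instance : (invCent S).Normal := by
  refine ⟨fun c hc g x hx => ?_⟩
  have hx' : g⁻¹ * x * g * (g⁻¹ * x * g) = 1 := by
    have : g⁻¹ * x * g * (g⁻¹ * x * g) = g⁻¹ * (x * x) * g := by group
    rw [this, show x * x = 1 from hx]
    group
  have h := hc (g⁻¹ * x * g) hx'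
  calc x * (g * c * g⁻¹) = g * (g⁻¹ * x * g * c) * g⁻¹ := by group
    _ = g * (c * (g⁻¹ * x * g)) * g⁻¹ := by rw [h]
    _ = g * c * g⁻¹ * x := by group

variable {S}

theorem mem_invCent {c : S} : c ∈ invCent S ↔ ∀ x, x * x = 1 → x * c = c * x := Iff.rfl

/-- An injective homomorphism defined on a subgroup containing all involutions and their
centralizer maps that centralizer into itself. -/
theorem map_mem_invCent [Finite S] (hE : ∀ x : S, x * x = 1 → x ∈ invCent S) {H : Subgroup S}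
    (hH : invCent S ≤ H) {f : H →* S} (hf : Function.Injective f) {c : H}
    (hc : (c : S) ∈ invCent S) : f c ∈ invCent S := by
  rw [mem_invCent]
  intro x hx
  let e : {x : S // x * x = 1} → {x : S // x * x = 1} := fun y =>
    ⟨f ⟨y, hH (hE _ y.2)⟩, by
      rw [← map_mul]
      have : (⟨y, hH (hE _ y.2)⟩ : H) * ⟨y, hH (hE _ y.2)⟩ = 1 := Subtype.ext y.2
      rw [this, map_one]⟩
  have he : Function.Injective e := fun y y' h =>
    Subtype.ext (Subtype.mk_eq_mk.1 (hf (congrArg Subtype.val h)))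
  obtain ⟨y, hy⟩ := (Finite.injective_iff_surjective (f := e)).1 he ⟨x, hx⟩
  have hy' : f ⟨y, hH (hE _ y.2)⟩ = x := congrArg Subtype.val hy
  rw [← hy', ← map_mul, ← map_mul]
  exact congrArg f (Subtype.ext (mem_invCent.1 hc y y.2))

/-- A fusion relation on a 2-group with the properties used in the proof. -/
structure Fused (R : S → S → Prop) : Prop where
  symm : ∀ x y, R x y → R y x
  trans : ∀ x y z, R x y → R y z → R x z
  inv : ∀ x y, R x y → R x⁻¹ y⁻¹
  conj : ∀ s x : S, R x (s * x * s⁻¹)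
  toCenter : ∀ x : S, ∃ φ : Subgroup.centralizer ({x} : Set S) →* S, Function.Injective φ ∧
    (∀ c : Subgroup.centralizer ({x} : Set S), (c : S) = x → φ c ∈ Subgroup.center S) ∧
    ∀ c : Subgroup.centralizer ({x} : Set S), R c (φ c)
  central : ∀ z ∈ Subgroup.center S, ∃ B : Subgroup (MulAut S),
    Odd (MulAction.orbit B z).ncard ∧
    ∀ w, w ∈ MulAction.orbit B z ↔ (w ∈ Subgroup.center S ∧ R z w)
  orbit : (∀ x : S, x * x = 1 → x ∈ invCent S) → IsMulCommutative (invCent S) →
    ∃ A : Subgroup (MulAut (invCent S)), (∀ s : S, MulAut.conjNormal s ∈ A) ∧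
      ∀ c : invCent S, Odd (MulAction.orbit A c).ncard

variable {R : S → S → Prop}

theorem Fused.exists_aut (hR : Fused R) {z w : S} (hz : z ∈ Subgroup.center S)
    (hw : w ∈ Subgroup.center S) (h : R z w) : ∃ α : MulAut S, α z = w := by
  obtain ⟨B, -, hB⟩ := hR.central z hz
  obtain ⟨b, hb⟩ := (hB w).2 ⟨hw, h⟩
  exact ⟨b, hb⟩

/-- A real element has order at most two. -/
theorem Fused.sq_eq_one_of_real [Finite S] (hR : Fused R) {s x : S} (h : s * x * s⁻¹ = x⁻¹) :
    x * x = 1 := by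
  obtain ⟨φ, hinj, hz, hφ⟩ := hR.toCenter x
  let x' : Subgroup.centralizer ({x} : Set S) := ⟨x, by
    intro y hy
    rw [Set.mem_singleton_iff.1 hy]⟩
  obtain ⟨B, hodd, hB⟩ := hR.central (φ x') (hz x' rfl)
  have hinv : R (φ x') (φ x')⁻¹ :=
    hR.trans _ _ _ (hR.symm _ _ (hφ x'))
      (hR.trans _ _ _ (h ▸ hR.conj s x) (hR.inv _ _ (hφ x')))
  have hstab : ∀ w ∈ MulAction.orbit B (φ x'), w⁻¹ ∈ MulAction.orbit B (φ x') := by
    intro w hw
    obtain ⟨hw1, hw2⟩ := (hB w).1 hw
    exact (hB _).2 ⟨inv_mem hw1, hR.trans _ _ _ hinv (hR.inv _ _ hw2)⟩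
  rw [← Nat.card_coe_set_eq] at hodd
  obtain ⟨⟨w, hw⟩, hfix⟩ := exists_fixed hodd (fun w => ⟨w.1⁻¹, hstab w w.2⟩)
    (fun w => Subtype.ext (inv_inv w.1))
  have hfix' : w⁻¹ = w := congrArg Subtype.val hfix
  obtain ⟨b, hb⟩ := hw
  have hww : w * w = 1 := by
    nth_rw 1 [← hfix']
    exact inv_mul_cancel w
  have hbb : (b : MulAut S) (φ (x' * x')) = (b : MulAut S) (φ 1) := by
    rw [map_mul, map_mul, map_one, map_one, show (b : MulAut S) (φ x') = w from hb, hww]
  exact congrArg Subtype.val (hinj ((b : MulAut S).injective hbb))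

theorem Fused.comm_of_sq [Finite S] (hR : Fused R) {x y : S} (hx : x * x = 1) (hy : y * y = 1) :
    x * y = y * x := by
  have hxi : x⁻¹ = x := inv_eq_of_mul_eq_one_right hx
  have hyi : y⁻¹ = y := inv_eq_of_mul_eq_one_right hy
  have h := hR.sq_eq_one_of_real (s := x) (x := x * y) (by
    rw [mul_inv_rev, hxi, hyi, ← mul_assoc x x y, hx, one_mul])
  have h' := eq_inv_of_mul_eq_one_left h
  rwa [mul_inv_rev, hxi, hyi] at h'

theorem Fused.mem_invCent_of_sq [Finite S] (hR : Fused R) {x : S} (hx : x * x = 1) :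
    x ∈ invCent S :=
  mem_invCent.2 fun _ hy => hR.comm_of_sq hy hx

/-- A square lying in the centre of `invCent S` is the square of an element of that centre. -/
theorem Fused.exists_sq [Finite S] (hR : Fused R) {s : S} (hs : s * s ∈ invCent S)
    (hs' : ∀ c ∈ invCent S, c * (s * s) = s * s * c) :
    ∃ y ∈ invCent S, (∀ c ∈ invCent S, c * y = y * c) ∧ y * y = s * s := by
  obtain ⟨ψ, hψ, hψz, hψR⟩ := hR.toCenter (s * s)
  obtain ⟨χ, -, hχz, hχR⟩ := hR.toCenter s
  have hCH : invCent S ≤ Subgroup.centralizer ({s * s} : Set S) := by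
    intro c hc y hy
    rw [Set.mem_singleton_iff.1 hy]
    exact (hs' c hc).symm
  let s₁ : Subgroup.centralizer ({s} : Set S) := ⟨s, by
    intro y hy
    rw [Set.mem_singleton_iff.1 hy]⟩
  let q : Subgroup.centralizer ({s * s} : Set S) := ⟨s * s, hCH hs⟩
  have hzc : χ s₁ ∈ Subgroup.center S := hχz s₁ rfl
  have hz2 : χ s₁ * χ s₁ ∈ Subgroup.center S := mul_mem hzc hzc
  have hRq : R (ψ q) (χ s₁ * χ s₁) := by
    have h1 := hχR (s₁ * s₁)
    rw [map_mul] at h1
    exact hR.trans _ _ _ (hR.symm _ _ (hψR q)) h1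
  obtain ⟨α, hα⟩ := hR.exists_aut (hψz q rfl) hz2 hRq
  let g : invCent S →* S :=
    α.toMonoidHom.comp (ψ.comp (Subgroup.inclusion hCH))
  have hg : Function.Injective g :=
    α.injective.comp (hψ.comp (Subgroup.inclusion_injective hCH))
  have hgC : ∀ c, g c ∈ invCent S := fun c =>
    map_mem_invCent (fun x hx => hR.mem_invCent_of_sq hx) le_rfl hg c.2
  obtain ⟨y, hy⟩ := (Finite.injective_iff_surjective
    (f := fun c : invCent S => (⟨g c, hgC c⟩ : invCent S))).1
    (fun a b hab => hg (congrArg Subtype.val hab))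
    ⟨χ s₁, mem_invCent.2 fun x _ => Subgroup.mem_center_iff.1 hzc x⟩
  have hy' : g y = χ s₁ := congrArg Subtype.val hy
  refine ⟨y, y.2, fun c hc => ?_, ?_⟩
  · have : (⟨c, hc⟩ : invCent S) * y = y * ⟨c, hc⟩ := hg (by
      rw [map_mul, map_mul, hy']
      exact Subgroup.mem_center_iff.1 hzc _)
    exact congrArg Subtype.val this
  · have : y * y = (⟨s * s, hs⟩ : invCent S) := hg (by
      rw [map_mul, hy']
      exact hα.symm)
    exact congrArg Subtype.val this

/-- A 2-group element outside a subgroup has a power outside it whose square is inside. -/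
theorem exists_sq_mem (hS : IsPGroup 2 S) {L K : Subgroup S} {s : S} (hsL : s ∈ L)
    (hsK : s ∉ K) : ∃ t ∈ L, t ∉ K ∧ t * t ∈ K := by
  obtain ⟨k, hk⟩ := hS s
  have hk' : s ^ 2 ^ k ∈ K := hk ▸ K.one_mem
  clear hk
  induction k generalizing s with
  | zero => exact absurd (by simpa using hk') hsK
  | succ k ih =>
    by_cases h : s * s ∈ K
    · exact ⟨s, hsL, hsK, h⟩
    · refine ih (L.mul_mem hsL hsL) h ?_
      rwa [← pow_two, ← pow_mul, ← pow_succ']

theorem Fused.invCent_comm [Finite S] (hR : Fused R) (hS : IsPGroup 2 S) {a b : S}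
    (ha : a ∈ invCent S) (hb : b ∈ invCent S) : a * b = b * a := by
  by_contra hne
  set K := invCent S ⊓ Subgroup.centralizer (invCent S : Set S) with hK
  have hbK : b ∉ K := fun h => hne (h.2 a ha)
  obtain ⟨t, htC, htK, ht2⟩ := exists_sq_mem hS hb hbK
  obtain ⟨y, hy, hyc, hy2⟩ := hR.exists_sq ht2.1 ht2.2
  have hcomm : t * y = y * t := hyc t htC
  have hu : t * y⁻¹ * (t * y⁻¹) = 1 := by
    calc t * y⁻¹ * (t * y⁻¹) = t * (y⁻¹ * t) * y⁻¹ := by group
      _ = t * (t * y⁻¹) * y⁻¹ := by rw [(Commute.inv_left (hcomm.symm : Commute y t)).eq]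
      _ = t * t * (y * y)⁻¹ := by group
      _ = 1 := by rw [hy2, mul_inv_cancel]
  have huK : t * y⁻¹ ∈ K :=
    ⟨hR.mem_invCent_of_sq hu, fun c hc => (mem_invCent.1 hc _ hu).symm⟩
  have hyK : y ∈ K := ⟨hy, hyc⟩
  apply htK
  have := K.mul_mem huK hyK
  rwa [inv_mul_cancel_right] at this

/-- The main conclusion. -/
theorem Fused.comm [Finite S] (hR : Fused R) (hS : IsPGroup 2 S) (a b : S) : a * b = b * a := by
  have hE : ∀ x : S, x * x = 1 → x ∈ invCent S := fun x hx => hR.mem_invCent_of_sq hx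
  by_cases htop : ∀ x, x ∈ invCent S
  · exact hR.invCent_comm hS (htop a) (htop b)
  push Not at htop
  obtain ⟨x₀, hx₀⟩ := htop
  obtain ⟨s, -, hs, hs2⟩ := exists_sq_mem hS (L := ⊤) (Subgroup.mem_top x₀) hx₀
  have hcomm : ∀ u ∈ invCent S, ∀ v ∈ invCent S, u * v = v * u :=
    fun u hu v hv => hR.invCent_comm hS hu hv
  obtain ⟨A, hconj, hodd⟩ := hR.orbit hE
    ⟨⟨fun u v => Subtype.ext (hcomm u u.2 v v.2)⟩⟩
  have hcC : ∀ t c : S, c ∈ invCent S → t * c * t⁻¹ ∈ invCent S :=
    fun t c hc => Subgroup.Normal.conj_mem inferInstance c hc t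
  -- commutators with `s` are involutions
  have hk : ∀ c ∈ invCent S, s * c * s⁻¹ * c⁻¹ * (s * c * s⁻¹ * c⁻¹) = 1 := by
    intro c hc
    refine hR.sq_eq_one_of_real (s := s) ?_
    calc s * (s * c * s⁻¹ * c⁻¹) * s⁻¹ = s * s * c * (s * s)⁻¹ * (s * c⁻¹ * s⁻¹) := by group
      _ = c * (s * c⁻¹ * s⁻¹) := by rw [hcomm _ hs2 c hc, mul_inv_cancel_right]
      _ = (s * c * s⁻¹ * c⁻¹)⁻¹ := by group
  obtain ⟨y, hy, -, hy2⟩ := hR.exists_sq hs2 (fun c hc => hcomm c hc _ hs2)
  set f := s * y⁻¹ * (s * y⁻¹) with hf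
  have hfy : f = s * y * s⁻¹ * y⁻¹ := by
    have h1 : f = s * y⁻¹ * s⁻¹ * y := by
      calc f = s * y⁻¹ * s⁻¹ * (s * s) * y⁻¹ := by rw [hf]; group
        _ = s * y⁻¹ * s⁻¹ * y := by rw [← hy2]; group
    have h2 : f⁻¹ = s * y * s⁻¹ * y⁻¹ := by
      rw [h1, hcomm (s * y * s⁻¹) (hcC s y hy) y⁻¹ (inv_mem hy)]
      group
    have h3 : (s * y * s⁻¹ * y⁻¹)⁻¹ = s * y * s⁻¹ * y⁻¹ := inv_eq_of_mul_eq_one_right (hk y hy)
    rw [← h3, ← h2, inv_inv]
  have hfC : f ∈ invCent S := hfy ▸ mul_mem (hcC s y hy) (inv_mem hy)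
  obtain ⟨c₁, hc₁, -, hc₁f⟩ := hR.exists_sq (s := s * y⁻¹) hfC (fun c hc => hcomm c hc _ hfC)
  have hf1 : f ≠ 1 := by
    intro h
    apply hs
    have := mul_mem (hE _ h) hy
    rwa [inv_mul_cancel_right] at this
  -- the automorphisms fixing all squares
  let N : Subgroup A :=
    { carrier := {a | ∀ c : invCent S, (a : MulAut (invCent S)) (c * c) = c * c}
      one_mem' := fun c => rfl
      mul_mem' := fun {a b} ha hb c => by
        show (a : MulAut (invCent S)) ((b : MulAut (invCent S)) (c * c)) = c * c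
        rw [hb c, ha c]
      inv_mem' := fun {a} ha c => by
        show (a : MulAut (invCent S))⁻¹ (c * c) = c * c
        conv_lhs => rw [← ha c]
        exact (a : MulAut (invCent S)).symm_apply_apply _ }
  have hN : N.Normal := ⟨fun n hn g c => by
    show (g : MulAut (invCent S)) ((n : MulAut (invCent S))
      ((g : MulAut (invCent S))⁻¹ (c * c))) = c * c
    rw [map_mul (g : MulAut (invCent S))⁻¹, hn, ← map_mul (g : MulAut (invCent S))⁻¹]
    exact (g : MulAut (invCent S)).apply_symm_apply _⟩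
  let as : A := ⟨MulAut.conjNormal s, hconj s⟩
  have has : as ∈ N := by
    intro c
    apply Subtype.ext
    show s * ((c : S) * c) * s⁻¹ = c * c
    have h := hk c c.2
    have h' : s * c * s⁻¹ * (s * c * s⁻¹) = (c : S) * c := by
      have e : s * c * s⁻¹ * (c : S)⁻¹ * (s * c * s⁻¹ * (c : S)⁻¹) =
          s * c * s⁻¹ * (s * c * s⁻¹) * ((c : S) * c)⁻¹ := by
        rw [mul_inv_rev]
        calc s * c * s⁻¹ * (c : S)⁻¹ * (s * c * s⁻¹ * (c : S)⁻¹)
            = s * c * s⁻¹ * ((c : S)⁻¹ * (s * c * s⁻¹)) * (c : S)⁻¹ := by group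
          _ = _ := by rw [hcomm _ (inv_mem c.2) _ (hcC s c c.2)]; group
      rw [e] at h
      exact mul_inv_eq_one.1 h
    calc s * ((c : S) * c) * s⁻¹ = s * c * s⁻¹ * (s * c * s⁻¹) := by group
      _ = _ := h'
  let y' : invCent S := ⟨y, hy⟩
  let f' : invCent S := ⟨f, hfC⟩
  have hff : f' * f' = 1 := Subtype.ext (by
    show f * f = 1
    rw [hfy]
    exact hk y hy)
  have hact : (as : MulAut (invCent S)) y' = f' * y' := Subtype.ext (by
    show s * y * s⁻¹ = f * y
    rw [hfy, inv_mul_cancel_right])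
  have hnf : ∀ n ∈ N, (n : MulAut (invCent S)) f' = f' := by
    intro n hn
    have h := hn ⟨c₁, hc₁⟩
    have e : (⟨c₁, hc₁⟩ : invCent S) * ⟨c₁, hc₁⟩ = f' := Subtype.ext hc₁f
    rwa [e] at h
  have hstab : ∀ w ∈ MulAction.orbit N y', f' * w ∈ MulAction.orbit N y' := by
    rintro w ⟨n, rfl⟩
    refine ⟨n * ⟨as, has⟩, ?_⟩
    show ((n : A) : MulAut (invCent S)) ((as : MulAut (invCent S)) y') =
      f' * ((n : A) : MulAut (invCent S)) y'
    rw [hact, map_mul, hnf n n.2]
  have hoddN : Odd (MulAction.orbit N y').ncard :=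
    (hodd y').of_dvd_nat (ncard_orbit_dvd N y')
  rw [← Nat.card_coe_set_eq] at hoddN
  obtain ⟨w, hw⟩ := exists_fixed hoddN (fun w => ⟨f' * w.1, hstab w w.2⟩)
    (fun w => Subtype.ext (by
      show f' * (f' * w.1) = w.1
      rw [← mul_assoc, hff, one_mul]))
  exact absurd (congrArg Subtype.val (mul_eq_right.1 (congrArg Subtype.val hw)))
    (fun h => hf1 h)

end CfsgLib.CenterConj
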