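import Cfsg.Agent.CenterConj.Core
import Mathlib.GroupTheory.Sylow

/-!
The group case: if every 2-element centralizes a Sylow 2-subgroup, these subgroups are commutative.
-/

set_option autoImplicit false

namespace CfsgLib.CenterConj

variable {G : Type*} [Group G] [Finite G]

theorem exists_conj_to_center (P : Sylow 2 G)
    (h : ∀ x : G, (∃ k : ℕ, orderOf x = 2 ^ k) →
      ∃ Q : Sylow 2 G, (Q : Subgroup G) ≤ Subgroup.centralizer ({x} : Set G))
    (x : ↥(P : Subgroup G)) :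
    ∃ g : G, (∀ c : ↥(P : Subgroup G), c * x = x * c → g * c * g⁻¹ ∈ (P : Subgroup G)) ∧
      ∀ q ∈ (P : Subgroup G), q * (g * x * g⁻¹) = g * x * g⁻¹ * q := by
  have : Fact (Nat.Prime 2) := ⟨Nat.prime_two⟩
  obtain ⟨Q, hQ⟩ := h x (by
    obtain ⟨k, hk⟩ := IsPGroup.iff_orderOf.1 P.isPGroup' x
    exact ⟨k, by rw [← hk, Subgroup.orderOf_coe]⟩)
  set H := Subgroup.centralizer ({(x : G)} : Set G)
  let D : Subgroup H := ((P : Subgroup G)).subgroupOf H
  have hD : IsPGroup 2 D := P.isPGroup'.comap_subtype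
  obtain ⟨T, hT⟩ := hD.exists_le_sylow
  obtain ⟨a, ha⟩ := MulAction.exists_smul_eq H T (Q.subtype hQ)
  obtain ⟨g, hg⟩ := MulAction.exists_smul_eq G Q P
  have hgQ : ∀ q ∈ (Q : Subgroup G), g * q * g⁻¹ ∈ (P : Subgroup G) := fun q hq => by
    rw [← hg, Sylow.coe_subgroup_smul]
    exact ⟨q, hq, rfl⟩
  have hax : (a : G) * x * (a : G)⁻¹ = x := by
    rw [← (a.2 (x : G) (Set.mem_singleton _)), mul_inv_cancel_right]
  refine ⟨g * a, fun c hc => ?_, fun q hq => ?_⟩
  · have hcH : (c : G) ∈ H := by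
      intro y hy
      rw [Set.mem_singleton_iff.1 hy]
      exact (congrArg Subtype.val hc).symm
    have h1 : a * ⟨c, hcH⟩ * a⁻¹ ∈ (Q.subtype hQ : Subgroup H) := by
      rw [← ha, Sylow.coe_subgroup_smul]
      exact ⟨⟨c, hcH⟩, hT c.2, rfl⟩
    have h2 := hgQ _ h1
    have e : g * a * (c : G) * (g * a)⁻¹ = g * ((a * ⟨c, hcH⟩ * a⁻¹ : H) : G) * g⁻¹ := by
      show _ = g * ((a : G) * c * (a : G)⁻¹) * g⁻¹
      group
    rw [e]
    exact h2
  · have e : g * (a : G) * x * (g * a)⁻¹ = g * x * g⁻¹ := by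
      calc g * (a : G) * x * (g * a)⁻¹ = g * ((a : G) * x * (a : G)⁻¹) * g⁻¹ := by group
        _ = _ := by rw [hax]
    rw [e]
    rw [← hg, Sylow.coe_subgroup_smul] at hq
    obtain ⟨r, hr, rfl⟩ := hq
    show g * r * g⁻¹ * (g * x * g⁻¹) = g * x * g⁻¹ * (g * r * g⁻¹)
    have := hQ hr (x : G) (Set.mem_singleton _)
    calc g * r * g⁻¹ * (g * x * g⁻¹) = g * (r * x) * g⁻¹ := by group
      _ = g * (x * r) * g⁻¹ := by rw [this]
      _ = _ := by group

/-- Fusion in `G` between the elements of a Sylow 2-subgroup has the required properties. -/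
theorem fused_of_group (P : Sylow 2 G)
    (h : ∀ x : G, (∃ k : ℕ, orderOf x = 2 ^ k) →
      ∃ Q : Sylow 2 G, (Q : Subgroup G) ≤ Subgroup.centralizer ({x} : Set G)) :
    Fused (S := ↥(P : Subgroup G)) (fun a b => ∃ g : G, g * a * g⁻¹ = b) := by
  have : Fact (Nat.Prime 2) := ⟨Nat.prime_two⟩
  refine ⟨?_, ?_, ?_, ?_, ?_, ?_, ?_⟩
  · rintro a b ⟨g, hg⟩
    exact ⟨g⁻¹, by rw [← hg]; group⟩
  · rintro a b c ⟨g, hg⟩ ⟨k, hk⟩
    exact ⟨k * g, by rw [← hk, ← hg]; group⟩
  · rintro a b ⟨g, hg⟩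
    refine ⟨g, ?_⟩
    show g * (a : G)⁻¹ * g⁻¹ = (b : G)⁻¹
    rw [← hg]
    group
  · exact fun s x => ⟨s, rfl⟩
  · intro x
    obtain ⟨g, hg, hz⟩ := exists_conj_to_center P h x
    have hcx : ∀ c : Subgroup.centralizer ({x} : Set ↥(P : Subgroup G)),
        (c : ↥(P : Subgroup G)) * x = x * c := fun c => (c.2 x (Set.mem_singleton _)).symm
    let φ : Subgroup.centralizer ({x} : Set ↥(P : Subgroup G)) →* ↥(P : Subgroup G) :=
      { toFun := fun c => ⟨g * (c : ↥(P : Subgroup G)) * g⁻¹, hg _ (hcx c)⟩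
        map_one' := Subtype.ext (by simp)
        map_mul' := fun a b => Subtype.ext (by simp [mul_assoc]) }
    refine ⟨φ, fun a b hab => ?_, fun c hc => ?_, fun c => ⟨g, rfl⟩⟩
    · exact Subtype.ext (Subtype.ext (mul_left_cancel (mul_right_cancel
        (congrArg Subtype.val hab : g * _ * g⁻¹ = g * _ * g⁻¹))))
    · rw [Subgroup.mem_center_iff]
      intro q
      apply Subtype.ext
      show (q : G) * (g * ((c : ↥(P : Subgroup G)) : G) * g⁻¹) =
        g * ((c : ↥(P : Subgroup G)) : G) * g⁻¹ * q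
      rw [hc]
      exact hz q q.2
  · intro z hz
    let f := (P : Subgroup G).normalizerMonoidHom
    have hzc : ∀ w : ↥(P : Subgroup G), w ∈ Subgroup.center _ →
        (w : G) ∈ Subgroup.centralizer ((P : Subgroup G) : Set G) := fun w hw q hq =>
      congrArg Subtype.val (Subgroup.mem_center_iff.1 hw ⟨q, hq⟩)
    refine ⟨f.range, odd_orbit f z (P.subtype Subgroup.le_normalizer) (fun q hq => ?_),
      fun w => ⟨?_, ?_⟩⟩
    · apply Subtype.ext
      show (q : G) * z * (q : G)⁻¹ = z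
      rw [hzc z hz q hq, mul_inv_cancel_right]
    · rintro ⟨⟨b, n, rfl⟩, rfl⟩
      refine ⟨?_, (n : G), rfl⟩
      rw [Subgroup.mem_center_iff]
      intro q
      show q * f n z = f n z * q
      obtain ⟨r, rfl⟩ := (f n).surjective q
      rw [← map_mul, ← map_mul, Subgroup.mem_center_iff.1 hz r]
    · rintro ⟨hw, g, hg⟩
      obtain ⟨n, hn, hn'⟩ := P.conj_eq_normalizer_conj_of_mem_centralizer (z : G) g⁻¹ (hzc z hz)
        (by rw [inv_inv, hg]; exact hzc w hw)
      refine ⟨⟨f ⟨n⁻¹, inv_mem hn⟩, _, rfl⟩, Subtype.ext ?_⟩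
      show n⁻¹ * (z : G) * n⁻¹⁻¹ = w
      rw [inv_inv, ← hn', inv_inv, hg]
  · intro hE hab
    let C := invCent ↥(P : Subgroup G)
    let C' : Subgroup G := C.map (P : Subgroup G).subtype
    let e : C ≃* C' := C.equivMapOfInjective _ (P : Subgroup G).subtype_injective
    let f : Subgroup.normalizer (C' : Set G) →* MulAut C :=
      (MulAut.congr e.symm).toMonoidHom.comp C'.normalizerMonoidHom
    have hf : ∀ (n : Subgroup.normalizer (C' : Set G)) (c : C),
        ((f n c : ↥(P : Subgroup G)) : G) = (n : G) * (c : ↥(P : Subgroup G)) * (n : G)⁻¹ := by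
      intro n c
      show ((e.symm (C'.normalizerMonoidHom n (e c)) : ↥(P : Subgroup G)) : G) = _
      have he : ∀ d : C', ((e.symm d : ↥(P : Subgroup G)) : G) = d := fun d => by
        conv_rhs => rw [← e.apply_symm_apply d]
        rfl
      rw [he]
      rfl
    have hPn : (P : Subgroup G) ≤ Subgroup.normalizer (C' : Set G) := by
      intro p hp
      rw [Subgroup.mem_normalizer_iff]
      intro y
      constructor
      · rintro ⟨c, hc, rfl⟩
        exact ⟨⟨p, hp⟩ * c * ⟨p, hp⟩⁻¹, Subgroup.Normal.conj_mem inferInstance c hc ⟨p, hp⟩, rfl⟩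
      · rintro ⟨c, hc, he⟩
        refine ⟨⟨p, hp⟩⁻¹ * c * ⟨p, hp⟩⁻¹⁻¹,
          Subgroup.Normal.conj_mem inferInstance c hc _, ?_⟩
        show p⁻¹ * (c : G) * p⁻¹⁻¹ = y
        rw [show (c : G) = p * y * p⁻¹ from he]
        group
    refine ⟨f.range, fun s => ⟨⟨s, hPn s.2⟩, MulEquiv.ext fun c =>
      Subtype.ext (Subtype.ext (hf _ c))⟩, fun c => ?_⟩
    obtain ⟨g, hg, hz⟩ := exists_conj_to_center P h (c : ↥(P : Subgroup G))
    have hgC : ∀ d ∈ C, g * ((d : ↥(P : Subgroup G)) : G) * g⁻¹ ∈ C' := by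
      intro d hd
      let φ : C →* ↥(P : Subgroup G) :=
        { toFun := fun u => ⟨g * (u : ↥(P : Subgroup G)) * g⁻¹,
            hg _ (congrArg Subtype.val (hab.is_comm.comm u c))⟩
          map_one' := Subtype.ext (by simp)
          map_mul' := fun a b => Subtype.ext (by simp [mul_assoc]) }
      have hφ : Function.Injective φ := fun a b hab' => Subtype.ext (Subtype.ext
        (mul_left_cancel (mul_right_cancel
          (congrArg Subtype.val hab' : g * _ * g⁻¹ = g * _ * g⁻¹))))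
      exact ⟨φ ⟨d, hd⟩, map_mem_invCent hE le_rfl hφ (c := ⟨d, hd⟩) hd, rfl⟩
    have hgN : g ∈ Subgroup.normalizer (C' : Set G) := by
      refine Subgroup.mem_normalizer_fintype ?_
      rintro _ ⟨d, hd, rfl⟩
      exact hgC d hd
    refine odd_orbit f c ((g⁻¹ • P).subtype (N := Subgroup.normalizer (C' : Set G)) ?_)
      (fun q hq => ?_)
    · rw [Sylow.coe_subgroup_smul]
      rintro _ ⟨p, hp, rfl⟩
      show g⁻¹ * p * g⁻¹⁻¹ ∈ _
      exact mul_mem (mul_mem (inv_mem hgN) (hPn hp)) (inv_mem (inv_mem hgN))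
    · have hq' : (q : G) ∈ ((g⁻¹ • P : Sylow 2 G) : Subgroup G) := hq
      rw [Sylow.coe_subgroup_smul] at hq'
      obtain ⟨p, hp, hpq⟩ := hq'
      apply Subtype.ext
      apply Subtype.ext
      rw [hf, ← hpq]
      show g⁻¹ * p * g⁻¹⁻¹ * ((c : ↥(P : Subgroup G)) : G) * (g⁻¹ * p * g⁻¹⁻¹)⁻¹ = _
      calc g⁻¹ * p * g⁻¹⁻¹ * ((c : ↥(P : Subgroup G)) : G) * (g⁻¹ * p * g⁻¹⁻¹)⁻¹
          = g⁻¹ * (p * (g * ((c : ↥(P : Subgroup G)) : G) * g⁻¹)) * p⁻¹ * g := by group
        _ = _ := by rw [hz p hp]; group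

end CfsgLib.CenterConj
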